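import Mathlib

/-!
# Fixed-point-free automorphisms of order dividing four

If a solvable group `L` with a fixed-point-free automorphism `α` (`α ^ 4 = 1`) acts faithfully on an
abelian group `V` compatibly with a fixed-point-free automorphism `s` (`s ^ 4 = 1`) and irreducibly,
then `L` is abelian. The elements inverted by `t = s ^ 2` and `β = α ^ 2` are compared elementarily.
-/

set_option linter.style.haveILetI false
set_option autoImplicit false

namespace CfsgLib.FpfFour

open scoped commutatorElement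

variable {L : Type*} [Group L] [Finite L]

theorem odd_card {α : MulAut L} (hα : α ^ 4 = 1) (hfix : ∀ g, α g = g → g = 1) :
    Odd (Nat.card L) := by
  classical
  rw [Nat.odd_iff]
  haveI := Fintype.ofFinite L
  let f : Function.End L := ⇑α
  have h1 : ∀ k : ℕ, ∀ x, (f ^ k) x = (α ^ k) x := by
    intro k
    induction k with
    | zero => intro x; rfl
    | succ k ih => intro x; rw [pow_succ', pow_succ', MulAut.mul_apply, ← ih]; rfl
  have hmod := Equiv.Perm.card_fixedPoints_modEq (f := f) (p := 2) (n := 2) (by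
    refine funext fun x => ?_
    rw [h1, show (2 : ℕ) ^ 2 = 4 from rfl, hα]; rfl)
  have hone : Fintype.card (Function.fixedPoints f) = 1 :=
    Fintype.card_eq_one_iff.mpr ⟨⟨1, map_one α⟩, fun x => Subtype.ext (hfix x.1 x.2)⟩
  rw [hone] at hmod
  rw [Nat.card_eq_fintype_card]
  exact hmod

theorem eq_one_of_pow_two (hodd : Odd (Nat.card L)) {g : L} (h : g * g = 1) : g = 1 := by
  rw [← orderOf_eq_one_iff]
  refine Nat.eq_one_of_dvd_coprimes hodd.coprime_two_left ?_ (orderOf_dvd_natCard g)
  exact orderOf_dvd_of_pow_eq_one (by rw [pow_two, h])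

theorem commute_of_commute_sq (hodd : Odd (Nat.card L)) {g x : L} (h : Commute (g * g) x) :
    Commute g x := by
  obtain ⟨k, hk⟩ := hodd
  have e : g = (g * g) ^ (k + 1) := by
    rw [← pow_two, ← pow_mul, show 2 * (k + 1) = (2 * k + 1) + 1 by ring, ← hk, pow_succ,
      pow_card_eq_one', one_mul]
  rw [e]
  exact h.pow_left _

/-- Every element is a product of an element fixed and one inverted by an involutory
automorphism, the latter lying in the cyclic subgroup of `g⁻¹ * β g`. -/
theorem exists_fixed_mul_inverted (hodd : Odd (Nat.card L)) {β : MulAut L}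
    (hβ : ∀ g, β (β g) = g) (g : L) :
    ∃ h i : L, g = h * i ∧ β h = h ∧ β i = i⁻¹ ∧ i ∈ Subgroup.zpowers (g⁻¹ * β g) := by
  obtain ⟨k, hk⟩ := hodd
  set x := g⁻¹ * β g with hx
  have hinv : β x = x⁻¹ := by rw [hx, map_mul, map_inv, hβ, mul_inv_rev, inv_inv]
  set y := x ^ (k + 1) with hy
  have hyy : y * y = x := by
    rw [hy, ← pow_add, show k + 1 + (k + 1) = (2 * k + 1) + 1 by ring, ← hk, pow_succ,
      pow_card_eq_one', one_mul]
  have hby : β y = y⁻¹ := by rw [hy, map_pow, hinv, inv_pow]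
  refine ⟨g * y, y⁻¹, by rw [mul_inv_cancel_right], ?_, by rw [map_inv, hby],
    Subgroup.inv_mem _ (Subgroup.pow_mem _ (Subgroup.mem_zpowers x) _)⟩
  have hg : β g = g * x := by rw [hx, mul_inv_cancel_left]
  rw [map_mul, hby, hg, ← hyy, mul_assoc, mul_assoc, mul_inv_cancel, mul_one]

theorem fixed_sq_eq_inv {α : MulAut L} (hfix : ∀ g, α g = g → g = 1) (hα : α ^ 4 = 1)
    {h : L} (hh : α (α h) = h) : α h = h⁻¹ := by
  let H : Subgroup L :=
    { carrier := {g | α (α g) = g}
      mul_mem' := fun {a b} (ha : α (α a) = a) (hb : α (α b) = b) => by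
        show α (α (a * b)) = a * b
        rw [map_mul, map_mul, ha, hb]
      one_mem' := by
        show α (α 1) = 1
        rw [map_one, map_one]
      inv_mem' := fun {a} (ha : α (α a) = a) => by
        show α (α a⁻¹) = a⁻¹
        rw [map_inv, map_inv, ha] }
  let f : H →* H :=
    { toFun := fun g => ⟨α g, congrArg α g.2⟩
      map_one' := Subtype.ext (map_one α)
      map_mul' := fun a b => Subtype.ext (map_mul α _ _) }
  have hf : MonoidHom.FixedPointFree (f : H → H) := fun g hg =>
    Subtype.ext (hfix g (congrArg Subtype.val hg))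
  have hinvol : Function.Involutive (f : H → H) := fun g => Subtype.ext g.2
  exact congrArg Subtype.val (congrFun (hf.coe_eq_inv_of_involutive hinvol) ⟨h, hh⟩)

section Module

variable {V : Type*} [CommGroup V] [Finite V] {α : MulAut L} {s : MulAut V} {φ : L →* MulAut V}

/-- A nontrivial invariant subgroup contains a minimal one. -/
theorem exists_minimal (A : Subgroup L) {Y : Subgroup V} (hY : Y ≠ ⊥)
    (hYA : ∀ a ∈ A, ∀ v ∈ Y, φ a v ∈ Y) :
    ∃ W : Subgroup V, W ≤ Y ∧ W ≠ ⊥ ∧ (∀ a ∈ A, ∀ v ∈ W, φ a v ∈ W) ∧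
      ∀ W' : Subgroup V, W' ≤ W → (∀ a ∈ A, ∀ v ∈ W', φ a v ∈ W') → W' ≠ ⊥ → W' = W := by
  obtain ⟨W, ⟨hWY, hW, hWA⟩, hmin⟩ := Set.exists_min_image
    {W : Subgroup V | W ≤ Y ∧ W ≠ ⊥ ∧ ∀ a ∈ A, ∀ v ∈ W, φ a v ∈ W}
    (fun W => Nat.card W) (Set.toFinite _) ⟨Y, le_rfl, hY, hYA⟩
  exact ⟨W, hWY, hW, hWA, fun W' hle hA' hne =>
    Subgroup.eq_of_le_of_card_ge hle (hmin W' ⟨hle.trans hWY, hne, hA'⟩)⟩

/-- The fixed points of a set of operators. -/
def fixedBy (φ : L →* MulAut V) (S : Set L) : Subgroup V where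
  carrier := {v | ∀ a ∈ S, φ a v = v}
  mul_mem' := fun {u v} hu hv a ha => by rw [map_mul, hu a ha, hv a ha]
  one_mem' := fun a _ => map_one _
  inv_mem' := fun {u} hu a ha => by rw [map_inv, hu a ha]

theorem mem_fixedBy {S : Set L} {v : V} : v ∈ fixedBy φ S ↔ ∀ a ∈ S, φ a v = v := Iff.rfl

theorem commute_all (hinj : Function.Injective φ) (hL : Group.IsSolvable L)
    (hcompat : ∀ g v, s (φ g v) = φ (α g) (s v)) (hs : s ^ 4 = 1) (hsfix : ∀ v, s v = v → v = 1)
    (hα : α ^ 4 = 1) (hαfix : ∀ g, α g = g → g = 1)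
    (hirr : ∀ W : Subgroup V, (∀ g, ∀ v ∈ W, φ g v ∈ W) → (∀ v ∈ W, s v ∈ W) → W = ⊥ ∨ W = ⊤) :
    ∀ a b : L, a * b = b * a := by
  classical
  haveI := Fintype.ofFinite L
  have hLodd := odd_card hα hαfix
  have hVodd := odd_card hs hsfix
  set β := α ^ 2 with hβdef
  set t := s ^ 2 with htdef
  have hβ1 : ∀ g, β g = α (α g) := fun g => by rw [hβdef, pow_two, MulAut.mul_apply]
  have ht1 : ∀ v, t v = s (s v) := fun v => by rw [htdef, pow_two, MulAut.mul_apply]
  have hββ : ∀ g, β (β g) = g := fun g => by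
    rw [← MulAut.mul_apply, hβdef, ← pow_add, hα, MulAut.one_apply]
  have htt : ∀ v, t (t v) = v := fun v => by
    rw [← MulAut.mul_apply, htdef, ← pow_add, hs, MulAut.one_apply]
  have hc : ∀ g v, t (φ g v) = φ (β g) (t v) := fun g v => by
    rw [ht1, ht1, hβ1, hcompat, hcompat]
  have hHinv : ∀ h, β h = h → α h = h⁻¹ := fun h hh =>
    fixed_sq_eq_inv hαfix hα (by rw [← hβ1]; exact hh)
  have hVinv : ∀ v, t v = v → s v = v⁻¹ := fun v hv =>
    fixed_sq_eq_inv hsfix hs (by rw [← ht1]; exact hv)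
  have hHcomm : ∀ a b, β a = a → β b = b → a * b = b * a := by
    intro a b ha hb
    have h1 := hHinv (a * b) (by rw [map_mul, ha, hb])
    rw [map_mul, hHinv a ha, hHinv b hb, mul_inv_rev] at h1
    have h2 := congrArg (·⁻¹) h1
    simpa [mul_inv_rev] using h2.symm
  have hcompose : ∀ (a b : L) (v : V), φ a (φ b v) = φ (a * b) v := fun a b v => by
    rw [map_mul, MulAut.mul_apply]
  -- the fixed elements of `β` centralize the fixed points of `t`
  have hcentr : ∀ h, β h = h → ∀ v, t v = v → φ h v = v := by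
    intro h hh v hv
    have h1 : t (φ h v) = φ h v := by rw [hc, hh, hv]
    have h2 := hVinv _ h1
    rw [hcompat, hHinv h hh, hVinv v hv, map_inv (φ h⁻¹), inv_inj] at h2
    have h3 : φ (h * h) v = v := by
      rw [← hcompose, ← h2, hcompose, mul_inv_cancel, map_one, MulAut.one_apply]
    let S : Subgroup L :=
      { carrier := {g | φ g v = v}
        mul_mem' := fun {a b} (ha : φ a v = v) (hb : φ b v = v) => by
          show φ (a * b) v = v
          rw [← hcompose, hb, ha]
        one_mem' := by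
          show φ 1 v = v
          rw [map_one, MulAut.one_apply]
        inv_mem' := fun {a} (ha : φ a v = v) => by
          show φ a⁻¹ v = v
          conv_lhs => rw [← ha]
          rw [hcompose, inv_mul_cancel, map_one, MulAut.one_apply] }
    obtain ⟨k, hk⟩ := hLodd
    have e : h = (h * h) ^ (k + 1) := by
      rw [← pow_two, ← pow_mul, show 2 * (k + 1) = (2 * k + 1) + 1 by ring, ← hk, pow_succ,
        pow_card_eq_one', one_mul]
    have h4 : (h * h) ^ (k + 1) ∈ S := S.pow_mem h3 _
    rw [← e] at h4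
    exact h4
  have hroot : ∀ (S : Subgroup L) (a : L), a * a ∈ S → a ∈ S := by
    intro S a ha
    obtain ⟨k, hk⟩ := hLodd
    have e : a = (a * a) ^ (k + 1) := by
      rw [← pow_two, ← pow_mul, show 2 * (k + 1) = (2 * k + 1) + 1 by ring, ← hk, pow_succ,
        pow_card_eq_one', one_mul]
    rw [e]
    exact S.pow_mem ha _
  by_cases hVp : ∀ v, t v = v → v = 1
  · -- `t` inverts `V`, so `β` is trivial
    have htinv : ∀ v, t v = v⁻¹ := by
      intro v
      have h1 : t (v * t v) = v * t v := by rw [map_mul, htt, mul_comm]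
      exact eq_inv_of_mul_eq_one_right (hVp _ h1)
    have hall : ∀ g, β g = g := fun g => hinj (MulEquiv.ext fun v => by
      have h1 := hc g v
      rw [htinv, htinv, map_inv, inv_inj] at h1
      exact h1.symm)
    exact fun a b => hHcomm a b (hall a) (hall b)
  push Not at hVp
  obtain ⟨v₀, hv₀, hv₀1⟩ := hVp
  by_cases hH : ∀ h, β h = h → h = 1
  · -- `β` inverts `L`
    have hinv : ∀ g, β g = g⁻¹ := by
      intro g
      obtain ⟨h, i, hg, hh, hi, -⟩ := exists_fixed_mul_inverted hLodd hββ g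
      rw [hg, hH h hh, one_mul, hi]
    intro a b
    have h1 := hinv (a * b)
    rw [map_mul, hinv a, hinv b, mul_inv_rev] at h1
    have h2 := congrArg (·⁻¹) h1
    simpa [mul_inv_rev] using h2.symm
  exfalso
  -- abelian normal invariant subgroups act fixed point freely
  have hfree : ∀ A : Subgroup L, A.Normal → (∀ a ∈ A, α a ∈ A) → A ≠ ⊥ → fixedBy φ (A : Set L) = ⊥ := by
    intro A hAn hAα hA
    have hmap : A.map α.toMonoidHom = A := by
      refine Subgroup.eq_of_le_of_card_ge ?_ (le_of_eq ?_)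
      · rintro _ ⟨a, ha, rfl⟩
        exact hAα a ha
      · rw [Subgroup.card_map_of_injective α.injective]
    rcases hirr (fixedBy φ (A : Set L)) (fun g v hv a ha => by
        rw [hcompose, show a * g = g * (g⁻¹ * a * g) by group, ← hcompose,
          hv _ (by simpa using hAn.conj_mem a ha g⁻¹)])
      (fun v hv a ha => by
        have ha' : a ∈ A.map α.toMonoidHom := by rw [hmap]; exact ha
        obtain ⟨b, hb, rfl⟩ := ha'
        rw [MulEquiv.coe_toMonoidHom, ← hcompat, hv b hb]) with h | h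
    · exact h
    · refine absurd ((Subgroup.eq_bot_iff_forall A).mpr fun a ha => hinj ?_) hA
      rw [map_one]
      refine MulEquiv.ext fun v => ?_
      have hv : v ∈ fixedBy φ (A : Set L) := h ▸ Subgroup.mem_top v
      exact hv a ha
  have hcop : ∀ A : Subgroup L, A.Normal → IsMulCommutative A → (∀ a ∈ A, α a ∈ A) →
      (Nat.card A).Coprime (Nat.card V) := by
    intro A hAn hAc hAα
    refine Nat.coprime_of_dvd fun r hr hrA hrV => ?_
    haveI := Fact.mk hr
    have hmul : ∀ a ∈ A, ∀ b ∈ A, a * b = b * a := fun a ha b hb =>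
      congrArg Subtype.val (hAc.is_comm.comm ⟨a, ha⟩ ⟨b, hb⟩)
    let R : Subgroup L :=
      { carrier := {a | a ∈ A ∧ a ^ r = 1}
        mul_mem' := fun {a b} ha hb => ⟨A.mul_mem ha.1 hb.1, by
          rw [Commute.mul_pow (hmul a ha.1 b hb.1), ha.2, hb.2, one_mul]⟩
        one_mem' := ⟨A.one_mem, one_pow _⟩
        inv_mem' := fun {a} ha => ⟨A.inv_mem ha.1, by rw [inv_pow, ha.2, inv_one]⟩ }
    have hRn : R.Normal := ⟨fun a ha g => ⟨hAn.conj_mem a ha.1 g, by
      rw [conj_pow, ha.2, mul_one, mul_inv_cancel]⟩⟩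
    have hRne : R ≠ ⊥ := by
      obtain ⟨a, ha⟩ := exists_prime_orderOf_dvd_card' r hrA
      intro e
      have hm : (a : L) ∈ R := ⟨a.2, by
        rw [← ha, ← Subgroup.orderOf_coe]; exact pow_orderOf_eq_one _⟩
      rw [e, Subgroup.mem_bot] at hm
      rw [show a = 1 from Subtype.ext hm, orderOf_one] at ha
      exact hr.ne_one ha.symm
    have hb := hfree R hRn (fun a ha => ⟨hAα a ha.1, by rw [← map_pow, ha.2, map_one]⟩) hRne
    have hRp : IsPGroup r R := fun a => ⟨1, Subtype.ext (by rw [pow_one]; exact a.2.2)⟩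
    letI : MulAction R V :=
      { smul := fun a v => φ (a : L) v
        one_smul := fun v => by
          show φ ((1 : R) : L) v = v
          rw [OneMemClass.coe_one, map_one, MulAut.one_apply]
        mul_smul := fun a b v => (hcompose a b v).symm }
    obtain ⟨v, hv, hv1⟩ := hRp.exists_fixed_point_of_prime_dvd_card_of_fixed_point V hrV
      (a := (1 : V)) (fun a => map_one (φ (a : L)))
    have hmem : v ∈ fixedBy φ (R : Set L) := fun a ha => hv ⟨a, ha⟩
    rw [hb, Subgroup.mem_bot] at hmem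
    exact hv1 hmem.symm
  -- the averaging map
  have havg : ∀ (A : Subgroup L) (v : V),
      ∀ a ∈ A, φ a (∏ x : A, φ (x : L) v) = ∏ x : A, φ (x : L) v := by
    intro A v a ha
    rw [map_prod]
    exact Fintype.prod_equiv (Equiv.mulLeft (⟨a, ha⟩ : A)) _ _ fun x => hcompose a (x : L) v
  -- abelian normal invariant subgroups are central
  have hcentral : ∀ A : Subgroup L, A.Normal → IsMulCommutative A → (∀ a ∈ A, α a ∈ A) →
      ∀ a ∈ A, ∀ g, g * a = a * g := by
    intro A hAn hAc hAα
    by_contra hnc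
    push Not at hnc
    obtain ⟨a₁, ha₁, g₁, hg₁⟩ := hnc
    have hAne : A ≠ ⊥ := fun e => hg₁ (by
      rw [(Subgroup.mem_bot.mp (e ▸ ha₁) : a₁ = 1), mul_one, one_mul])
    have hmul : ∀ a ∈ A, ∀ b ∈ A, a * b = b * a := fun a ha b hb =>
      congrArg Subtype.val (hAc.is_comm.comm ⟨a, ha⟩ ⟨b, hb⟩)
    have hAfree := hfree A hAn hAα hAne
    have hAcop := hcop A hAn hAc hAα
    have hAβ : ∀ a ∈ A, β a ∈ A := fun a ha => by rw [hβ1]; exact hAα _ (hAα a ha)
    have hAdec : ∀ a ∈ A, ∃ h i, a = h * i ∧ β h = h ∧ β i = i⁻¹ ∧ h ∈ A ∧ i ∈ A := by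
      intro a ha
      obtain ⟨h, i, hai, hh, hi, hiz⟩ := exists_fixed_mul_inverted hLodd hββ a
      have hiA : i ∈ A := (Subgroup.zpowers_le.mpr (A.mul_mem (A.inv_mem ha) (hAβ a ha))) hiz
      refine ⟨h, i, hai, hh, hi, ?_, hiA⟩
      rw [show h = a * i⁻¹ by rw [hai, mul_inv_cancel_right]]
      exact A.mul_mem ha (A.inv_mem hiA)
    -- no minimal submodule is fixed by all the commutators
    have hkill : ∀ W : Subgroup V, W ≠ ⊥ →
        (∀ a ∈ A, ∀ g, ∀ w ∈ W, φ (g * a * g⁻¹ * a⁻¹) w = w) → False := by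
      intro W hW hfix
      set D := ⁅(⊤ : Subgroup L), A⁆ with hD
      haveI := hAn
      have hDn : D.Normal := inferInstance
      have hDA : D ≤ A := Subgroup.commutator_le_right ⊤ A
      have hDα : ∀ a ∈ D, α a ∈ D := by
        intro a ha
        have h1 : D.map α.toMonoidHom ≤ D := by
          rw [hD, Subgroup.map_commutator]
          refine Subgroup.commutator_mono le_top ?_
          rintro _ ⟨b, hb, rfl⟩
          exact hAα b hb
        exact h1 ⟨a, ha, rfl⟩
      have hDne : D ≠ ⊥ := by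
        intro e
        apply hg₁
        have h1 : ⁅g₁, a₁⁆ ∈ D := Subgroup.commutator_mem_commutator (Subgroup.mem_top g₁) ha₁
        rw [e, Subgroup.mem_bot, commutatorElement_eq_one_iff_mul_comm] at h1
        exact h1
      apply hW
      rw [eq_bot_iff, ← hfree D hDn hDα hDne]
      intro w hw
      let S : Subgroup L :=
        { carrier := {g | φ g w = w}
          mul_mem' := fun {a b} (ha : φ a w = w) (hb : φ b w = w) => by
            show φ (a * b) w = w
            rw [← hcompose, hb, ha]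
          one_mem' := by
            show φ 1 w = w
            rw [map_one, MulAut.one_apply]
          inv_mem' := fun {a} (ha : φ a w = w) => by
            show φ a⁻¹ w = w
            conv_lhs => rw [← ha]
            rw [hcompose, inv_mul_cancel, map_one, MulAut.one_apply] }
      have hle : D ≤ S := Subgroup.commutator_le.mpr fun g _ a ha => hfix a ha g w hw
      exact fun a ha => hle ha
    let Ap : Subgroup L :=
      { carrier := {a | a ∈ A ∧ β a = a}
        mul_mem' := fun {a b} ha hb => ⟨A.mul_mem ha.1 hb.1, by rw [map_mul, ha.2, hb.2]⟩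
        one_mem' := ⟨A.one_mem, map_one β⟩
        inv_mem' := fun {a} ha => ⟨A.inv_mem ha.1, by rw [map_inv, ha.2]⟩ }
    let Ker : Subgroup V → Subgroup L := fun W =>
      { carrier := {a | a ∈ A ∧ ∀ w ∈ W, φ a w = w}
        mul_mem' := fun {a b} ha hb => ⟨A.mul_mem ha.1 hb.1, fun w hw => by
          rw [← hcompose, hb.2 w hw, ha.2 w hw]⟩
        one_mem' := ⟨A.one_mem, fun w _ => by rw [map_one, MulAut.one_apply]⟩
        inv_mem' := fun {a} ha => ⟨A.inv_mem ha.1, fun w hw => by
          conv_lhs => rw [← ha.2 w hw]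
          rw [hcompose, inv_mul_cancel, map_one, MulAut.one_apply]⟩ }
    -- on a minimal submodule an element of `A` is trivial or fixed-point-free
    have hsemi : ∀ W : Subgroup V, (∀ a ∈ A, ∀ v ∈ W, φ a v ∈ W) →
        (∀ W' : Subgroup V, W' ≤ W → (∀ a ∈ A, ∀ v ∈ W', φ a v ∈ W') → W' ≠ ⊥ → W' = W) →
        ∀ a ∈ A, ∀ w ∈ W, φ a w = w → w ≠ 1 → a ∈ Ker W := by
      intro W hWA hWmin a ha w hw hfix hw1
      have h1 : W ⊓ fixedBy φ ({a} : Set L) = W := hWmin _ inf_le_left
        (fun b hb v hv => ⟨hWA b hb v hv.1, fun c hc' => by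
          rw [Set.mem_singleton_iff.mp hc', hcompose, hmul a ha b hb, ← hcompose,
            hv.2 a (Set.mem_singleton a)]⟩)
        (fun e => hw1 (Subgroup.mem_bot.mp (e ▸
          ⟨hw, fun c hc' => by rw [Set.mem_singleton_iff.mp hc']; exact hfix⟩)))
      refine ⟨ha, fun v hv => ?_⟩
      have hv' : v ∈ W ⊓ fixedBy φ ({a} : Set L) := h1.symm ▸ hv
      exact hv'.2 a (Set.mem_singleton a)
    -- the fixed points of `Ap` absorb `v * t v`
    have hY't : ∀ v, v * t v ∈ fixedBy φ (Ap : Set L) := fun v b hb =>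
      hcentr b hb.2 _ (by rw [map_mul, htt, mul_comm])
    -- the kernel of `A` on a minimal submodule is invariant under `β`
    have hKβ : ∀ W : Subgroup V, (∀ a ∈ A, ∀ v ∈ W, φ a v ∈ W) →
        (∀ W' : Subgroup V, W' ≤ W → (∀ a ∈ A, ∀ v ∈ W', φ a v ∈ W') → W' ≠ ⊥ → W' = W) →
        ∀ a ∈ Ker W, β a ∈ Ker W := by
      intro W hWA hWmin a hak
      obtain ⟨haA, hafix⟩ := hak
      obtain ⟨h, i, rfl, hh, hi, hhA, hiA⟩ := hAdec a haA
      have hiK : i ∈ Ker W → β (h * i) ∈ Ker W := fun hiK => by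
        have hhK : h ∈ Ker W := by
          have := (Ker W).mul_mem (⟨haA, hafix⟩ : h * i ∈ Ker W) ((Ker W).inv_mem hiK)
          rwa [mul_inv_cancel_right] at this
        rw [map_mul, hh, hi]
        exact (Ker W).mul_mem hhK ((Ker W).inv_mem hiK)
      by_cases hp : ∀ d ∈ Ap, d ∈ Ker W
      · apply hiK
        have := (Ker W).mul_mem ((Ker W).inv_mem (hp h ⟨hhA, hh⟩)) (⟨haA, hafix⟩ : h * i ∈ Ker W)
        rwa [inv_mul_cancel_left] at this
      · apply hiK
        push Not at hp
        obtain ⟨d, hd, hdK⟩ := hp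
        refine ⟨hiA, ?_⟩
        have h1 : ∀ v ∈ W, φ (i * i) v = v := by
          intro v hv
          have e1 := hY't (φ i (φ i v))
          rw [hc, hc, hi] at e1
          have e2 : φ i⁻¹ (φ i⁻¹ (v * t v)) ∈ fixedBy φ (Ap : Set L) := fun b hb => by
            rw [hcompose i⁻¹, hcompose b, hmul b hb.1 _ (A.mul_mem (A.inv_mem hiA) (A.inv_mem hiA)),
              ← hcompose _ b, hY't v b hb]
          rw [map_mul, map_mul] at e2
          have e3 := Subgroup.mul_mem _ e1 (Subgroup.inv_mem _ e2)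
          rw [mul_inv, mul_mul_mul_comm, mul_inv_cancel, mul_one] at e3
          have hu : φ i (φ i v) * (φ i⁻¹ (φ i⁻¹ v))⁻¹ = 1 := by
            by_contra hne
            refine hdK (hsemi W hWA hWmin d hd.1 _ ?_ (e3 d hd) hne)
            exact W.mul_mem (hWA i hiA _ (hWA i hiA v hv))
              (W.inv_mem (hWA _ (A.inv_mem hiA) _ (hWA _ (A.inv_mem hiA) v hv)))
          rw [mul_inv_eq_one, hcompose, hcompose] at hu
          have h4 : φ ((i * i) * (i * i)) v = v := by
            rw [← hcompose, hu, hcompose, show (i * i) * (i⁻¹ * i⁻¹) = 1 by group, map_one,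
              MulAut.one_apply]
          exact (hroot
            { carrier := {g | φ g v = v}
              mul_mem' := fun {p q} (hp : φ p v = v) (hq : φ q v = v) => by
                show φ (p * q) v = v
                rw [← hcompose, hq, hp]
              one_mem' := by
                show φ 1 v = v
                rw [map_one, MulAut.one_apply]
              inv_mem' := fun {p} (hp : φ p v = v) => by
                show φ p⁻¹ v = v
                conv_lhs => rw [← hp]
                rw [hcompose, inv_mul_cancel, map_one, MulAut.one_apply] } _ h4)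
        exact (hroot (Ker W) i ⟨A.mul_mem hiA hiA, h1⟩).2
    -- elements commuting with `A` modulo a kernel
    let St : Subgroup V → Subgroup L := fun W =>
      { carrier := {g | ∀ a ∈ A, g * a * g⁻¹ * a⁻¹ ∈ Ker W}
        mul_mem' := fun {g g'} hg hg' a ha => by
          have e : g * g' * a * (g * g')⁻¹ * a⁻¹ =
              (g * (g' * a * g'⁻¹) * g⁻¹ * (g' * a * g'⁻¹)⁻¹) * (g' * a * g'⁻¹ * a⁻¹) := by group
          rw [e]
          exact (Ker W).mul_mem (hg _ (hAn.conj_mem a ha g')) (hg' a ha)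
        one_mem' := fun a _ => by
          have e : (1 : L) * a * 1⁻¹ * a⁻¹ = 1 := by group
          rw [e]; exact (Ker W).one_mem
        inv_mem' := fun {g} hg a ha => by
          have ha' := hAn.conj_mem a ha g⁻¹
          rw [inv_inv] at ha'
          have e : g⁻¹ * a * g⁻¹⁻¹ * a⁻¹ = (g * (g⁻¹ * a * g) * g⁻¹ * (g⁻¹ * a * g)⁻¹)⁻¹ := by group
          rw [e]
          exact (Ker W).inv_mem (hg _ ha') }
    have hstop : ∀ W : Subgroup V, W ≠ ⊥ → (∀ g, β g = g → g ∈ St W) →
        (∀ g, β g = g⁻¹ → g ∈ St W) → False := by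
      intro W hW h1 h2
      refine hkill W hW fun a ha g w hw => ?_
      obtain ⟨h, i, rfl, hh, hi, -⟩ := exists_fixed_mul_inverted hLodd hββ g
      exact (((St W).mul_mem (h1 h hh) (h2 i hi)) a ha).2 w hw
    -- (i) the fixed elements of `β` in `A` are trivial
    have hplus : ∀ a ∈ A, β a = a → a = 1 := by
      let N : V →* V :=
        { toFun := fun v => ∏ x : Ap, φ (x : L) v
          map_one' := by simp
          map_mul' := fun u v => by simp [map_mul, Finset.prod_mul_distrib] }
      have hNfix : ∀ v, ∀ a ∈ Ap, φ a (N v) = N v := fun v => havg Ap v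
      -- every minimal submodule is fixed by `Ap`
      have hmin : ∀ W : Subgroup V, W ≠ ⊥ → (∀ a ∈ A, ∀ v ∈ W, φ a v ∈ W) →
          (∀ W' : Subgroup V, W' ≤ W → (∀ a ∈ A, ∀ v ∈ W', φ a v ∈ W') → W' ≠ ⊥ → W' = W) →
          ∀ d ∈ Ap, d ∈ Ker W := by
        intro W hW hWA hWmin
        by_contra hp
        push Not at hp
        obtain ⟨d, hd, hdK⟩ := hp
        -- inverted elements of `A` lie in the kernel
        have hm : ∀ i ∈ A, β i = i⁻¹ → i ∈ Ker W := by
          intro i hiA hi
          refine hroot (Ker W) i ⟨A.mul_mem hiA hiA, fun v hv => ?_⟩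
          have e1 := hY't (φ i v)
          rw [hc, hi] at e1
          have e2 : φ i⁻¹ (v * t v) ∈ fixedBy φ (Ap : Set L) := fun b hb => by
            rw [hcompose, hmul b hb.1 _ (A.inv_mem hiA), ← hcompose, hY't v b hb]
          rw [map_mul] at e2
          have e3 := Subgroup.mul_mem _ e1 (Subgroup.inv_mem _ e2)
          rw [mul_inv, mul_mul_mul_comm, mul_inv_cancel, mul_one] at e3
          have hu : φ i v * (φ i⁻¹ v)⁻¹ = 1 := by
            by_contra hne
            refine hdK (hsemi W hWA hWmin d hd.1 _ ?_ (e3 d hd) hne)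
            exact W.mul_mem (hWA i hiA v hv) (W.inv_mem (hWA _ (A.inv_mem hiA) v hv))
          rw [mul_inv_eq_one] at hu
          rw [← hcompose, hu, hcompose, mul_inv_cancel, map_one, MulAut.one_apply]
        have hmod : ∀ a ∈ A, a⁻¹ * β a ∈ Ker W := by
          intro a ha
          obtain ⟨h, i, rfl, hh, hi, hhA, hiA⟩ := hAdec a ha
          rw [map_mul, hh, hi, mul_inv_rev, mul_assoc, inv_mul_cancel_left]
          exact (Ker W).mul_mem ((Ker W).inv_mem (hm i hiA hi)) ((Ker W).inv_mem (hm i hiA hi))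
        refine hstop W hW (fun h hh a ha => ?_) (fun r hr => ?_)
        · obtain ⟨k, i, rfl, hk, hi, hkA, hiA⟩ := hAdec a ha
          have e : h * (k * i) * h⁻¹ * (k * i)⁻¹ = k * ((h * i * h⁻¹) * i⁻¹) * k⁻¹ := by
            rw [show h * (k * i) = k * h * i by rw [← mul_assoc, hHcomm h k hh hk]]
            group
          have hi' : h * i * h⁻¹ ∈ A := hAn.conj_mem i hiA h
          rw [e, hmul k hkA _ (A.mul_mem hi' (A.inv_mem hiA)), mul_inv_cancel_right]
          refine (Ker W).mul_mem (hm _ hi' ?_) ((Ker W).inv_mem (hm i hiA hi))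
          rw [map_mul, map_mul, map_inv, hh, hi, mul_inv_rev, mul_inv_rev, inv_inv, mul_assoc]
        · -- translates of the kernel by `r` are invariant, so `r` normalizes it
          have hconj : ∀ (u : L), ∀ c ∈ A, u⁻¹ * c * u ∈ Ker W → u⁻¹ * β c * u ∈ Ker W := by
            intro u c hcA hcK
            have hW' : ∀ a ∈ A, ∀ x ∈ W.map (φ u).toMonoidHom, φ a x ∈ W.map (φ u).toMonoidHom := by
              rintro a ha _ ⟨x, hx, rfl⟩
              refine ⟨φ (u⁻¹ * a * u) x, hWA _ (by simpa using hAn.conj_mem a ha u⁻¹) x hx, ?_⟩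
              show φ u (φ (u⁻¹ * a * u) x) = φ a (φ u x)
              rw [hcompose, hcompose]; congr 2; group
            have hmin' : ∀ W' : Subgroup V, W' ≤ W.map (φ u).toMonoidHom →
                (∀ a ∈ A, ∀ v ∈ W', φ a v ∈ W') → W' ≠ ⊥ → W' = W.map (φ u).toMonoidHom := by
              intro W' hle hA' hne
              have h1 : W'.comap (φ u).toMonoidHom = W := by
                refine hWmin _ (fun x hx => ?_) (fun a ha x hx => ?_) (fun e => hne ?_)
                · obtain ⟨y, hy, hyx⟩ := hle hx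
                  rwa [← (φ u).injective hyx]
                · show φ u (φ a x) ∈ W'
                  have h2 := hA' _ (hAn.conj_mem a ha u) _ hx
                  rw [MulEquiv.coe_toMonoidHom, hcompose, inv_mul_cancel_right, ← hcompose] at h2
                  exact h2
                · rw [← Subgroup.map_comap_eq_self_of_surjective (f := (φ u).toMonoidHom)
                    (φ u).surjective W', e, Subgroup.map_bot]
              rw [← h1, Subgroup.map_comap_eq_self_of_surjective (φ u).surjective]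
            have hcK' : c ∈ Ker (W.map (φ u).toMonoidHom) := by
              refine ⟨hcA, ?_⟩
              rintro _ ⟨x, hx, rfl⟩
              show φ c (φ u x) = φ u x
              conv_rhs => rw [← hcK.2 x hx]
              rw [hcompose, hcompose]; congr 2; group
            have h3 := hKβ _ hW' hmin' c hcK'
            refine ⟨by simpa using hAn.conj_mem _ h3.1 u⁻¹, fun x hx => ?_⟩
            have h4 := h3.2 (φ u x) ⟨x, hx, rfl⟩
            rw [← hcompose, ← hcompose, h4, hcompose, inv_mul_cancel, map_one, MulAut.one_apply]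
          have hnorm : ∀ c ∈ Ker W, r * c * r⁻¹ ∈ Ker W := by
            let M : Subgroup L :=
              { carrier := {g | ∀ c ∈ Ker W, g * c * g⁻¹ ∈ Ker W}
                mul_mem' := fun {p q} hp hq c hc' => by
                  have e : p * q * c * (p * q)⁻¹ = p * (q * c * q⁻¹) * p⁻¹ := by group
                  rw [e]
                  exact hp _ (hq c hc')
                one_mem' := fun c hc' => by rwa [one_mul, inv_one, mul_one]
                inv_mem' := fun {p} hp c hc' => by
                  have hle : (Ker W).map (MulAut.conj p).toMonoidHom ≤ Ker W := by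
                    rintro _ ⟨d, hd, rfl⟩
                    exact hp d hd
                  have heq := Subgroup.eq_of_le_of_card_ge hle
                    (by rw [Subgroup.card_map_of_injective (MulAut.conj p).injective])
                  obtain ⟨d, hd, rfl⟩ := heq.symm ▸ hc'
                  rw [MulEquiv.coe_toMonoidHom, MulAut.conj_apply,
                    show p⁻¹ * (p * d * p⁻¹) * p⁻¹⁻¹ = d by group]
                  exact hd }
            refine hroot M r fun c hc' => ?_
            have h1 : r⁻¹ * β (r * c * r⁻¹) * r ∈ Ker W := by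
              refine hconj r _ (hAn.conj_mem c hc'.1 r) ?_
              rwa [show r⁻¹ * (r * c * r⁻¹) * r = c by group]
            rw [map_mul, map_mul, map_inv, hr, inv_inv,
              show r⁻¹ * (r⁻¹ * β c * r) * r = (r * r)⁻¹ * β c * (r * r) by group] at h1
            have h2 : ∀ d ∈ Ker W, (r * r)⁻¹ * d * (r * r) ∈ Ker W := fun d hd => by
              have h3 : r⁻¹ * β (r * β d * r⁻¹) * r ∈ Ker W := by
                refine hconj r _ (hAn.conj_mem _ (hAβ d hd.1) r) ?_
                rw [show r⁻¹ * (r * β d * r⁻¹) * r = β d by group]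
                exact hKβ W hWA hWmin d hd
              rwa [map_mul, map_mul, map_inv, hr, inv_inv, hββ,
                show r⁻¹ * (r⁻¹ * d * r) * r = (r * r)⁻¹ * d * (r * r) by group] at h3
            have hle : (Ker W).map (MulAut.conj (r * r)⁻¹).toMonoidHom ≤ Ker W := by
              rintro _ ⟨d, hd, rfl⟩
              rw [MulEquiv.coe_toMonoidHom, MulAut.conj_apply, inv_inv]
              exact h2 d hd
            have heq := Subgroup.eq_of_le_of_card_ge hle
              (by rw [Subgroup.card_map_of_injective (MulAut.conj (r * r)⁻¹).injective])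
            obtain ⟨d, hd, hdc⟩ := heq.symm ▸ hc'
            rw [← hdc]
            simpa [mul_assoc] using hd
          refine hroot (St W) r fun a ha => ?_
          -- modulo the kernel `β` is trivial on `A`
          have e1 := hmod _ (hAn.conj_mem a ha r)
          rw [map_mul, map_mul, map_inv, hr, inv_inv] at e1
          have e2 := (Ker W).mul_mem (hnorm _ e1) ((Ker W).inv_mem (hmod a ha))
          rw [show r * ((r * a * r⁻¹)⁻¹ * (r⁻¹ * β a * r)) * r⁻¹ * (a⁻¹ * β a)⁻¹ =
            r * r * a⁻¹ * (r * r)⁻¹ * a by group,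
            hmul _ (hAn.conj_mem _ (A.inv_mem ha) (r * r)) a ha] at e2
          have e3 := (Ker W).inv_mem e2
          rwa [show (a * (r * r * a⁻¹ * (r * r)⁻¹))⁻¹ = r * r * a * (r * r)⁻¹ * a⁻¹ by simp only [mul_inv_rev, inv_inv, mul_assoc]] at e3
      have hNinj : Function.Injective N := by
        rw [injective_iff_map_eq_one]
        intro v hv
        by_contra hv1
        have hY : N.ker ≠ ⊥ := fun e => hv1 (Subgroup.mem_bot.mp (e ▸ (hv : v ∈ N.ker)))
        obtain ⟨W, hWN, hW, hWA, hWmin⟩ := exists_minimal (φ := φ) A hY (fun a ha x (hx : N x = 1) => by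
          have e : ∀ d : Ap, φ (d : L) (φ a x) = φ a (φ (d : L) x) := fun d => by
            rw [hcompose, hcompose, hmul (d : L) d.2.1 a ha]
          show (∏ d : Ap, φ (d : L) (φ a x)) = 1
          simp only [e]
          rw [← map_prod]
          rw [show ∏ d : Ap, φ (d : L) x = 1 from hx, map_one])
        apply hW
        rw [eq_bot_iff]
        intro w hw
        have h1 : ∏ d : Ap, φ (d : L) w = 1 := hWN hw
        have e : ∀ d : Ap, φ (d : L) w = w := fun d => (hmin W hW hWA hWmin _ d.2).2 w hw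
        simp only [e, Finset.prod_const, Finset.card_univ, ← Nat.card_eq_fintype_card] at h1
        rw [Subgroup.mem_bot, ← orderOf_eq_one_iff]
        exact Nat.eq_one_of_dvd_coprimes
          (hAcop.coprime_dvd_left (Subgroup.card_dvd_of_le (fun d (hd : d ∈ Ap) => hd.1)))
          (orderOf_dvd_of_pow_eq_one h1) (orderOf_dvd_natCard w)
      intro a ha hβa
      refine hinj (MulEquiv.ext fun v => ?_)
      obtain ⟨u, rfl⟩ := (Finite.injective_iff_surjective.mp hNinj) v
      rw [hNfix u a ⟨ha, hβa⟩, map_one, MulAut.one_apply]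
    -- (ii) hence `β` inverts `A`
    have hAinv : ∀ a ∈ A, β a = a⁻¹ := by
      intro a ha
      obtain ⟨h, i, rfl, hh, hi, hhA, -⟩ := hAdec a ha
      rw [hplus h hhA hh, one_mul]
      exact hi
    obtain ⟨W, -, hW, hWA, hWmin⟩ := exists_minimal A (Y := (⊤ : Subgroup V))
      (fun e => hv₀1 (Subgroup.mem_bot.mp (e ▸ Subgroup.mem_top v₀))) (fun a _ v _ => Subgroup.mem_top _)
    have hWfix : ¬ ∀ a ∈ A, a ∈ Ker W := fun hall => hW (by
      rw [eq_bot_iff, ← hAfree]
      exact fun w hw a ha => (hall a ha).2 w hw)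
    refine hstop W hW (fun h hh => ?_) (fun r hr a ha => ?_)
    swap
    · -- inverted elements centralize `A`
      have h1 := hAinv _ (hAn.conj_mem a ha r)
      rw [map_mul, map_mul, map_inv, hr, inv_inv, hAinv a ha] at h1
      have h2 : Commute (r * r) a := by
        have h3 : r⁻¹ * a * r = r * a * r⁻¹ := by
          apply inv_injective
          rw [show (r⁻¹ * a * r)⁻¹ = r⁻¹ * a⁻¹ * r by group, h1]
        show r * r * a = a * (r * r)
        calc r * r * a = r * (r * a * r⁻¹) * r := by group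
          _ = r * (r⁻¹ * a * r) * r := by rw [h3]
          _ = a * (r * r) := by group
      rw [(commute_of_commute_sq hLodd h2).eq, mul_inv_cancel_right, mul_inv_cancel]
      exact (Ker W).one_mem
    · -- fixed elements: either they commute with `A` modulo the kernel, or they invert it
      by_contra hne
      have hne1 : ∃ a₁ ∈ A, h * a₁ * h⁻¹ * a₁⁻¹ ∉ Ker W := by
        by_contra h1
        push Not at h1
        exact hne h1
      have hne2 : ∃ a₂ ∈ A, h * a₂ * h⁻¹ * a₂ ∉ Ker W := by
        by_contra h1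
        push Not at h1
        apply hne
        refine hroot (St W) h fun a ha => ?_
        have ha' := hAn.conj_mem a ha h
        have e := (Ker W).mul_mem (h1 _ ha') ((Ker W).inv_mem (h1 a ha))
        rw [mul_inv_rev, show h * (h * a * h⁻¹) * h⁻¹ * (h * a * h⁻¹) * (a⁻¹ * (h * a * h⁻¹)⁻¹) =
          h * (h * a * h⁻¹) * h⁻¹ * ((h * a * h⁻¹) * a⁻¹ * (h * a * h⁻¹)⁻¹) by group,
          hmul _ ha' _ (A.inv_mem ha), mul_inv_cancel_right] at e
        rwa [show h * h * a * (h * h)⁻¹ * a⁻¹ = h * (h * a * h⁻¹) * h⁻¹ * a⁻¹ by group]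
      have hne3 : ∃ a ∈ A, h * a * h⁻¹ * a⁻¹ ∉ Ker W ∧ h * a * h⁻¹ * a ∉ Ker W := by
        obtain ⟨a₁, ha₁', hk1⟩ := hne1
        obtain ⟨a₂, ha₂, hk2⟩ := hne2
        by_cases h12 : h * a₁ * h⁻¹ * a₁ ∈ Ker W
        swap
        · exact ⟨a₁, ha₁', hk1, h12⟩
        by_cases h21 : h * a₂ * h⁻¹ * a₂⁻¹ ∈ Ker W
        swap
        · exact ⟨a₂, ha₂, h21, hk2⟩
        have c1 := hAn.conj_mem a₁ ha₁' h
        have c2 := hAn.conj_mem a₂ ha₂ h
        have ep : h * (a₁ * a₂) * h⁻¹ * (a₁ * a₂) =
            (h * a₁ * h⁻¹ * a₁) * (h * a₂ * h⁻¹ * a₂) := by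
          rw [show h * (a₁ * a₂) * h⁻¹ * (a₁ * a₂) =
            h * a₁ * h⁻¹ * ((h * a₂ * h⁻¹) * a₁) * a₂ by group, hmul _ c2 a₁ ha₁']
          group
        have em : h * (a₁ * a₂) * h⁻¹ * (a₁ * a₂)⁻¹ =
            (h * a₁ * h⁻¹ * a₁⁻¹) * (h * a₂ * h⁻¹ * a₂⁻¹) := by
          rw [mul_inv_rev, hmul a₂⁻¹ (A.inv_mem ha₂) a₁⁻¹ (A.inv_mem ha₁'),
            show h * (a₁ * a₂) * h⁻¹ * (a₁⁻¹ * a₂⁻¹) =
            h * a₁ * h⁻¹ * ((h * a₂ * h⁻¹) * a₁⁻¹) * a₂⁻¹ by group,
            hmul _ c2 _ (A.inv_mem ha₁')]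
          group
        refine ⟨a₁ * a₂, A.mul_mem ha₁' ha₂, fun hk => ?_, fun hk => ?_⟩
        · rw [em] at hk
          have := (Ker W).mul_mem hk ((Ker W).inv_mem h21)
          rw [mul_inv_cancel_right] at this
          exact hk1 this
        · rw [ep] at hk
          have := (Ker W).mul_mem ((Ker W).inv_mem h12) hk
          rw [inv_mul_cancel_left] at this
          exact hk2 this
      obtain ⟨a, ha, hkm, hkp⟩ := hne3
      obtain ⟨x, hxdef⟩ : ∃ x, x = h * a * h⁻¹ := ⟨_, rfl⟩
      rw [← hxdef] at hkm hkp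
      have hxA : x ∈ A := hxdef ▸ hAn.conj_mem a ha h
      let c : V →* V :=
        { toFun := fun v => φ x v * φ x⁻¹ v * (φ a v * φ a⁻¹ v)⁻¹
          map_one' := by simp
          map_mul' := fun u v => by simp only [map_mul, mul_inv]; ac_rfl }
      have hcfix : ∀ v, t v = v → c v = 1 := by
        intro v hv
        have hm : t (φ a v * φ a⁻¹ v) = φ a v * φ a⁻¹ v := by
          rw [map_mul, hc, hc, hAinv a ha, map_inv β, hAinv a ha, inv_inv, hv, mul_comm]
        have h1 := hcentr h hh _ hm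
        have h2 : φ h⁻¹ v = v := hcentr h⁻¹ (by rw [map_inv, hh]) v hv
        show φ x v * φ x⁻¹ v * (φ a v * φ a⁻¹ v)⁻¹ = 1
        rw [mul_inv_eq_one, hxdef, show (h * a * h⁻¹)⁻¹ = h * a⁻¹ * h⁻¹ by group,
          ← hcompose, ← hcompose (h * a⁻¹), h2, ← hcompose, ← hcompose h a⁻¹, ← map_mul, h1]
      have htc : ∀ v, t (c v) = c (t v) := by
        intro v
        show t (φ x v * φ x⁻¹ v * (φ a v * φ a⁻¹ v)⁻¹) =
          φ x (t v) * φ x⁻¹ (t v) * (φ a (t v) * φ a⁻¹ (t v))⁻¹
        rw [map_mul, map_inv t, map_mul, map_mul, hc, hc, hc, hc, map_inv β, map_inv β, hAinv a ha,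
          hAinv x hxA, inv_inv, inv_inv, mul_comm (φ x⁻¹ (t v)), mul_comm (φ a⁻¹ (t v))]
      have hcW : ∀ w ∈ W, c w ∈ W := fun w hw => W.mul_mem
        (W.mul_mem (hWA x hxA w hw) (hWA _ (A.inv_mem hxA) w hw))
        (W.inv_mem (W.mul_mem (hWA a ha w hw) (hWA _ (A.inv_mem ha) w hw)))
      have hcinj : ∀ w ∈ W, c w = 1 → w = 1 := by
        intro w hw hcw
        by_contra hw1
        have h1 : φ x w * φ x⁻¹ w = φ a w * φ a⁻¹ w := mul_inv_eq_one.mp hcw
        have h2 : φ x w * (φ a w)⁻¹ = φ a⁻¹ w * (φ x⁻¹ w)⁻¹ := by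
          rw [eq_mul_inv_iff_mul_eq, mul_right_comm, h1, mul_comm (φ a w), mul_inv_cancel_right]
        have huW : φ x w * (φ a w)⁻¹ ∈ W := W.mul_mem (hWA x hxA w hw) (W.inv_mem (hWA a ha w hw))
        have hu : φ x w * (φ a w)⁻¹ = 1 := by
          by_contra hu1
          refine hkp (hsemi W hWA hWmin _ (A.mul_mem hxA ha) _ huW ?_ hu1)
          conv_lhs => rw [h2]
          rw [map_mul, map_inv (φ (x * a)), hcompose, hcompose, mul_inv_cancel_right, hmul x hxA a ha,
            mul_inv_cancel_right]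
        rw [mul_inv_eq_one] at hu
        refine hkm (hsemi W hWA hWmin _ (A.mul_mem hxA (A.inv_mem ha)) w hw ?_ hw1)
        rw [hmul x hxA _ (A.inv_mem ha), ← hcompose, hu, hcompose, inv_mul_cancel, map_one,
          MulAut.one_apply]
      -- some element of `W` is fixed by `t`, or `W` meets its image trivially
      by_cases hWt : ∃ w ∈ W, w * t w ∈ W ∧ w * t w ≠ 1
      · obtain ⟨w, hw, hwt, hne'⟩ := hWt
        exact hne' (hcinj _ hwt (hcfix _ (by rw [map_mul, htt, mul_comm])))
      push Not at hWt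
      have hWt' : ∀ w ∈ W, t w ∈ W → t w = w⁻¹ := fun w hw htw =>
        eq_inv_of_mul_eq_one_right (hWt w hw (W.mul_mem hw htw))
      by_cases htW : ∀ w ∈ W, t w ∈ W
      · apply hWfix
        intro b hb
        refine hroot (Ker W) b ⟨A.mul_mem hb hb, fun w hw => ?_⟩
        have h1 := hWt' _ (hWA b hb w hw) (htW _ (hWA b hb w hw))
        rw [hc, hAinv b hb, hWt' w hw (htW w hw), map_inv, inv_inj] at h1
        conv_lhs => rw [← hcompose, ← h1, hcompose, mul_inv_cancel, map_one, MulAut.one_apply]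
      · push Not at htW
        obtain ⟨w, hw, htw⟩ := htW
        have hw1 : w ≠ 1 := fun e => htw (by rw [e, map_one]; exact W.one_mem)
        have hv := hcfix (w * t w) (by rw [map_mul, htt, mul_comm])
        rw [map_mul, ← htc] at hv
        have htcw : t (c w) ∈ W := by
          rw [eq_inv_of_mul_eq_one_right hv]
          exact W.inv_mem (hcW w hw)
        have hcw1 : c w ≠ 1 := fun e => hw1 (hcinj w hw e)
        have hsub : W.comap t.toMonoidHom ⊓ W = W := hWmin _ inf_le_right (fun b hb u hu => ⟨by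
            show t (φ b u) ∈ W
            rw [hc]
            exact hWA _ (hAβ b hb) _ hu.1, hWA b hb u hu.2⟩)
          (fun e => hcw1 (Subgroup.mem_bot.mp (e ▸ ⟨htcw, hcW w hw⟩)))
        have hw' : w ∈ W.comap t.toMonoidHom ⊓ W := hsub.symm ▸ hw
        exact htw hw'.1
  -- the last nontrivial term of the derived series
  obtain ⟨n, hn⟩ := (Group.isSolvable_def (G := L)).mp hL
  have hne : derivedSeries L 0 ≠ ⊥ := by
    push Not at hH
    obtain ⟨h, -, hh1⟩ := hH
    intro e
    rw [derivedSeries_zero] at e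
    exact hh1 (Subgroup.mem_bot.mp (e ▸ Subgroup.mem_top h))
  obtain ⟨m, hm, hm1⟩ : ∃ m, derivedSeries L m ≠ ⊥ ∧ derivedSeries L (m + 1) = ⊥ := by
    by_contra hcon
    push Not at hcon
    have : ∀ k, derivedSeries L k ≠ ⊥ := fun k => by
      induction k with
      | zero => exact hne
      | succ k ih => exact hcon k ih
    exact this n hn
  set A := derivedSeries L m with hA
  have hAn : A.Normal := derivedSeries_normal L m
  have hAc : IsMulCommutative A := by
    rw [derivedSeries_succ, Subgroup.commutator_eq_bot_iff_le_centralizer] at hm1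
    exact ⟨⟨fun a b => Subtype.ext (Subgroup.mem_centralizer_iff.mp (hm1 b.2) a a.2)⟩⟩
  have hAα : ∀ a ∈ A, α a ∈ A := fun a ha =>
    map_derivedSeries_le_derivedSeries α.toMonoidHom m ⟨a, ha, rfl⟩
  have hAz := hcentral A hAn hAc hAα
  have hAcop := hcop A hAn hAc hAα
  have hAfree := hfree A hAn hAα hm
  have hmulA : ∀ a ∈ A, ∀ g, g * a = a * g := hAz
  let Zp : Subgroup L :=
    { carrier := {a | a ∈ A ∧ β a = a}
      mul_mem' := fun {a b} ha hb => ⟨A.mul_mem ha.1 hb.1, by rw [map_mul, ha.2, hb.2]⟩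
      one_mem' := ⟨A.one_mem, map_one β⟩
      inv_mem' := fun {a} ha => ⟨A.inv_mem ha.1, by rw [map_inv, ha.2]⟩ }
  have hZp : Zp = ⊥ := by
    by_contra hne'
    have h1 := hfree Zp ⟨fun a ha g => by
        rwa [hmulA a ha.1 g, mul_inv_cancel_right]⟩
      (fun a ha => ⟨hAα a ha.1, by rw [hβ1, ← hβ1 a, ha.2]⟩) hne'
    have h2 : v₀ ∈ fixedBy φ (Zp : Set L) := fun a ha => hcentr a ha.2 v₀ hv₀
    rw [h1, Subgroup.mem_bot] at h2
    exact hv₀1 h2
  have hAinv : ∀ a ∈ A, β a = a⁻¹ := by
    intro a ha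
    obtain ⟨h, i, hai, hh, hi, hiz⟩ := exists_fixed_mul_inverted hLodd hββ a
    have hβA : β a ∈ A := by rw [hβ1]; exact hAα _ (hAα a ha)
    have hiA : i ∈ A := (Subgroup.zpowers_le.mpr (A.mul_mem (A.inv_mem ha) hβA)) hiz
    have hhA : h ∈ A := by
      rw [show h = a * i⁻¹ by rw [hai, mul_inv_cancel_right]]
      exact A.mul_mem ha (A.inv_mem hiA)
    have : h ∈ Zp := ⟨hhA, hh⟩
    rw [hZp, Subgroup.mem_bot] at this
    rw [hai, this, one_mul]
    exact hi
  set Y := fixedBy φ {h : L | β h = h} with hY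
  have hYt : ∀ v, v * t v ∈ Y := fun v b hb => hcentr b hb _ (by rw [map_mul, htt, mul_comm])
  have hmodY : ∀ a ∈ A, ∀ v, φ a v * v⁻¹ ∈ Y := by
    intro a ha v
    let T : Subgroup L :=
      { carrier := {g | g ∈ A ∧ ∀ v, φ g v * v⁻¹ ∈ Y}
        mul_mem' := fun {p q} hp hq => ⟨A.mul_mem hp.1 hq.1, fun v => by
          have e := Y.mul_mem (hp.2 (φ q v)) (hq.2 v)
          rwa [← mul_assoc, inv_mul_cancel_right, hcompose] at e⟩
        one_mem' := ⟨A.one_mem, fun v => by
          rw [map_one, MulAut.one_apply, mul_inv_cancel]; exact Y.one_mem⟩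
        inv_mem' := fun {p} hp => ⟨A.inv_mem hp.1, fun v => by
          have e := Y.inv_mem (hp.2 (φ p⁻¹ v))
          rwa [mul_inv_rev, inv_inv, hcompose, mul_inv_cancel, map_one, MulAut.one_apply] at e⟩ }
    refine (hroot T a ⟨A.mul_mem ha ha, fun v => ?_⟩).2 v
    have e1 := hYt (φ a v)
    rw [hc, hAinv a ha] at e1
    have e2 : φ a⁻¹ (v * t v) ∈ Y := fun b hb => by
      rw [hcompose, hmulA a⁻¹ (A.inv_mem ha) b, ← hcompose, hYt v b hb]
    rw [map_mul] at e2
    have e3 := Y.mul_mem e1 (Y.inv_mem e2)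
    rw [mul_inv, mul_mul_mul_comm, mul_inv_cancel, mul_one] at e3
    have e4 : φ a (φ a v * (φ a⁻¹ v)⁻¹) ∈ Y := fun b hb => by
      rw [hcompose, hmulA a ha b, ← hcompose, e3 b hb]
    rwa [map_mul, map_inv, hcompose, hcompose, mul_inv_cancel, map_one, MulAut.one_apply] at e4
  apply hH
  intro h hh
  refine hinj (MulEquiv.ext fun v => ?_)
  rw [map_one, MulAut.one_apply]
  have h1 : ∏ a : A, φ (a : L) v = 1 := by
    have h2 : ∏ a : A, φ (a : L) v ∈ fixedBy φ (A : Set L) := fun a ha => havg A v a ha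
    rwa [hAfree, Subgroup.mem_bot] at h2
  have h2 : v ^ Nat.card A ∈ Y := by
    have h3 : ∏ a : A, φ (a : L) v * v⁻¹ ∈ Y := Y.prod_mem fun a _ => hmodY a a.2 v
    rw [Finset.prod_mul_distrib, h1, one_mul, Finset.prod_const, Finset.card_univ,
      ← Nat.card_eq_fintype_card, inv_pow] at h3
    exact inv_mem_iff.mp h3
  obtain ⟨k, hk⟩ := (Nat.Coprime.pow_left_bijective (G := Y)
    (show (Nat.card Y).Coprime (Nat.card A) from
      (hAcop.coprime_dvd_right (Subgroup.card_subgroup_dvd_card Y)).symm)).2 ⟨_, h2⟩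
  have hv : (k : V) = v := (Nat.Coprime.pow_left_bijective (G := V) hAcop.symm).1
    (congrArg Subtype.val hk)
  rw [← hv]
  exact k.2 h hh

end Module

end CfsgLib.FpfFour
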