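import Mathlib
import Cfsg.Agent.Lib.FpfFour.Action
import Cfsg.Agent.Lib.Base.MinimalNormal
import Cfsg.Agent.Lib.Coprime.Basic
import Cfsg.Agent.Lib.Base.FPFAut

/-!
# A solvable group with a fixed-point-free automorphism of order dividing four has nilpotent
derived subgroup
-/

set_option linter.style.haveILetI false
set_option autoImplicit false

namespace CfsgLib.FpfFour

universe u

theorem quotient_fixedPointFree {G : Type u} [Group G] [Finite G] {σ : MulAut G}
    (hfix : ∀ g, σ g = g → g = 1) (N : Subgroup G) [N.Normal] (hN : N.map σ.toMonoidHom = N) :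
    ∀ y : G ⧸ N, QuotientGroup.congr N N σ hN y = y → y = 1 := by
  set ψ := QuotientGroup.congr N N σ hN
  have hsurj : Function.Surjective fun y : G ⧸ N => y⁻¹ * ψ y := fun y => by
    obtain ⟨g, rfl⟩ := QuotientGroup.mk_surjective y
    have hinj : Function.Injective fun x : G => x⁻¹ * σ x := fun a b hab => by
      have h1 : σ (a * b⁻¹) = a * b⁻¹ := by
        have h2 : a⁻¹ * σ a = b⁻¹ * σ b := hab
        have h3 : σ a = a * (b⁻¹ * σ b) := by rw [← h2, mul_inv_cancel_left]
        rw [map_mul, map_inv, h3, ← mul_assoc a, mul_inv_cancel_right]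
      exact mul_inv_eq_one.mp (hfix _ h1)
    obtain ⟨x, hx⟩ := Finite.injective_iff_surjective.mp hinj g
    refine ⟨(x : G ⧸ N), ?_⟩
    show (x : G ⧸ N)⁻¹ * ψ x = g
    rw [← hx]
    rfl
  intro y hy
  refine Finite.injective_iff_surjective.2 hsurj ?_
  show y⁻¹ * ψ y = 1⁻¹ * ψ 1
  rw [hy, map_one, inv_mul_cancel, inv_one, one_mul]

theorem quotient_pow_four {G : Type u} [Group G] {σ : MulAut G} (hσ : σ ^ 4 = 1)
    (N : Subgroup G) [N.Normal] (hN : N.map σ.toMonoidHom = N) :
    (QuotientGroup.congr N N σ hN : MulAut (G ⧸ N)) ^ 4 = 1 := by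
  refine MulEquiv.ext fun y => ?_
  obtain ⟨g, rfl⟩ := QuotientGroup.mk_surjective y
  have h : ∀ k : ℕ, ((QuotientGroup.congr N N σ hN : MulAut (G ⧸ N)) ^ k) (g : G ⧸ N) =
      (((σ ^ k) g : G) : G ⧸ N) := by
    intro k
    induction k with
    | zero => rfl
    | succ k ih =>
      rw [pow_succ', pow_succ', MulAut.mul_apply, MulAut.mul_apply, ih]
      rfl
  rw [h, hσ]
  rfl

theorem map_eq_of_le {G : Type u} [Group G] [Finite G] (σ : MulAut G) {H : Subgroup G}
    (h : ∀ x ∈ H, σ x ∈ H) : H.map σ.toMonoidHom = H :=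
  Subgroup.eq_of_le_of_card_ge (by rintro _ ⟨x, hx, rfl⟩; exact h x hx)
    (by rw [Subgroup.card_map_of_injective σ.injective])

theorem isNilpotent_commutator (n : ℕ) : ∀ (G : Type u) [Group G] [Finite G],
    Nat.card G = n → Group.IsSolvable G → ∀ σ : MulAut G, σ ^ 4 = 1 →
    (∀ g : G, σ g = g → g = 1) → Group.IsNilpotent (commutator G) := by
  induction n using Nat.strong_induction_on with
  | _ n ih =>
  intro G _ _ hn hG σ hσ hfix
  subst hn
  classical
  haveI := hG
  rcases subsingleton_or_nontrivial G with hs | hs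
  · infer_instance
  -- a minimal invariant normal subgroup
  obtain ⟨V, ⟨hVn, hVi, hVne⟩, hmin⟩ := Set.exists_min_image
    {N : Subgroup G | N.Normal ∧ (∀ x ∈ N, σ x ∈ N) ∧ N ≠ ⊥} (fun N => Nat.card N)
    (Set.toFinite _) ⟨⊤, inferInstance, fun x _ => Subgroup.mem_top _, top_ne_bot⟩
  haveI := hVn
  have hmin' : ∀ N : Subgroup G, N.Normal → (∀ x ∈ N, σ x ∈ N) → N ≤ V → N = ⊥ ∨ N = V := by
    intro N h1 h2 h3
    by_cases h4 : N = ⊥
    · exact Or.inl h4
    · exact Or.inr (Subgroup.eq_of_le_of_card_ge h3 (hmin N ⟨h1, h2, h4⟩))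
  have hVc : ⁅V, V⁆ = ⊥ := by
    have hlt := CfsgLib.Base.commutator_self_lt_of_isSolvable hVne inferInstance
    refine (hmin' _ inferInstance ?_ hlt.le).resolve_right hlt.ne
    intro x hx
    have h1 : ⁅V, V⁆.map σ.toMonoidHom ≤ ⁅V, V⁆ := by
      rw [Subgroup.map_commutator, map_eq_of_le σ hVi]
    exact h1 ⟨x, hx, rfl⟩
  haveI : IsMulCommutative V := ⟨⟨fun a b => Subtype.ext
    (Subgroup.mem_centralizer_iff.1 (Subgroup.commutator_eq_bot_iff_le_centralizer.1 hVc b.2) a a.2)⟩⟩
  letI : CommGroup V :=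
    { (inferInstance : Group V) with mul_comm := fun a b => IsMulCommutative.is_comm.comm a b }
  -- the centralizer
  set C := Subgroup.centralizer (V : Set G) with hC
  haveI : C.Normal := inferInstance
  have hCi : ∀ x ∈ C, σ x ∈ C := by
    intro x hx
    rw [hC, Subgroup.mem_centralizer_iff]
    intro v hv
    have hv' : v ∈ V.map σ.toMonoidHom := (map_eq_of_le σ hVi).symm ▸ hv
    obtain ⟨w, hw, rfl⟩ := hv'
    show σ w * σ x = σ x * σ w
    rw [← map_mul, ← map_mul, Subgroup.mem_centralizer_iff.mp hx w hw]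
  have hCmap := map_eq_of_le σ hCi
  let α : MulAut (G ⧸ C) := QuotientGroup.congr C C σ hCmap
  let conjV : G →* MulAut V := MulAut.conjNormal
  let φ : G ⧸ C →* MulAut V := QuotientGroup.lift C conjV (by
    intro x hx
    rw [MonoidHom.mem_ker]
    refine MulEquiv.ext fun v => Subtype.ext ?_
    show (MulAut.conjNormal x v : G) = v
    rw [MulAut.conjNormal_apply, ← Subgroup.mem_centralizer_iff.mp hx v v.2, mul_inv_cancel_right])
  have hφ : ∀ (g : G) (v : V), (φ (g : G ⧸ C) v : G) = g * v * g⁻¹ := fun g v =>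
    MulAut.conjNormal_apply g v
  let s : MulAut V := CfsgLib.Base.FPFAut.restrict σ (map_eq_of_le σ hVi)
  have hspow : s ^ 4 = 1 := CfsgLib.Base.FPFAut.restrict_pow_eq_one (map_eq_of_le σ hVi) hσ
  have hsfix : ∀ v, s v = v → v = 1 := fun v hv =>
    Subtype.ext (hfix v (congrArg Subtype.val hv))
  have hab : ∀ a b : G ⧸ C, a * b = b * a := by
    refine commute_all (φ := φ) (α := α) (s := s) ?_ inferInstance ?_ hspow hsfix
      (quotient_pow_four hσ C hCmap) (quotient_fixedPointFree hfix C hCmap) ?_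
    · rw [injective_iff_map_eq_one]
      intro x hx
      obtain ⟨g, rfl⟩ := QuotientGroup.mk_surjective x
      rw [QuotientGroup.eq_one_iff, hC, Subgroup.mem_centralizer_iff]
      intro v hv
      have h1 := hφ g ⟨v, hv⟩
      rw [hx] at h1
      exact mul_inv_eq_iff_eq_mul.mp (h1.symm.trans rfl) |>.symm
    · intro y v
      obtain ⟨g, rfl⟩ := QuotientGroup.mk_surjective y
      apply Subtype.ext
      show σ (φ (g : G ⧸ C) v : G) = (φ ((σ g : G) : G ⧸ C) (s v) : G)
      rw [hφ, hφ, map_mul, map_mul, map_inv]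
      rfl
    · intro W hW hWs
      let W' := W.map V.subtype
      have hW'n : W'.Normal := ⟨by
        rintro _ ⟨w, hw, rfl⟩ g
        exact ⟨φ (g : G ⧸ C) w, hW _ w hw, hφ g w⟩⟩
      rcases hmin' W' hW'n (by
          rintro _ ⟨w, hw, rfl⟩
          exact ⟨s w, hWs w hw, rfl⟩) (Subgroup.map_subtype_le W) with h | h
      · exact Or.inl ((Subgroup.map_eq_bot_iff_of_injective _ V.subtype_injective).mp h)
      · refine Or.inr (eq_top_iff.mpr fun v _ => ?_)
        have : (v : G) ∈ W' := h.symm ▸ v.2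
        obtain ⟨w, hw, hwv⟩ := this
        rwa [← Subtype.ext (hwv : (w : G) = v)]
  have hGC : commutator G ≤ C := by
    rw [commutator_def, Subgroup.commutator_le]
    intro a _ b _
    rw [← QuotientGroup.eq_one_iff]
    show ((a * b * a⁻¹ * b⁻¹ : G) : G ⧸ C) = 1
    rw [QuotientGroup.mk_mul, QuotientGroup.mk_mul, QuotientGroup.mk_mul, QuotientGroup.mk_inv,
      QuotientGroup.mk_inv, hab (a : G ⧸ C) b, mul_inv_cancel_right, mul_inv_cancel]
  have hVmap := map_eq_of_le σ hVi
  have hq : Group.IsNilpotent (commutator (G ⧸ V)) :=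
    ih _ (CfsgLib.Coprime.card_quotient_lt hVne) (G ⧸ V) rfl inferInstance
      (QuotientGroup.congr V V σ hVmap) (quotient_pow_four hσ V hVmap)
      (quotient_fixedPointFree hfix V hVmap)
  let π : commutator G →* commutator (G ⧸ V) :=
    ((QuotientGroup.mk' V).comp (commutator G).subtype).codRestrict _ (fun x => by
      have h1 : (commutator G).map (QuotientGroup.mk' V) ≤ commutator (G ⧸ V) := by
        rw [commutator_def, Subgroup.map_commutator]
        exact Subgroup.commutator_mono le_top le_top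
      exact h1 ⟨x, x.2, rfl⟩)
  haveI := hq
  refine Subgroup.isNilpotent_of_ker_le_center π ?_
  intro x hx
  rw [MonoidHom.mem_ker] at hx
  have hxV : (x : G) ∈ V := (QuotientGroup.eq_one_iff _).mp (congrArg Subtype.val hx)
  rw [Subgroup.mem_center_iff]
  intro y
  exact Subtype.ext (Subgroup.mem_centralizer_iff.mp (hGC y.2) x hxV).symm

end CfsgLib.FpfFour
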